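import Cfsg.Agent.OddProducts.Main
import Cfsg.Agent.ZStar.Theorem
import Cfsg.Agent.LocalP.Basic
import Cfsg.Prelude.Def_Solvable
import Cfsg.Agent.Eq.Def_Solvable

set_option autoImplicit false
open scoped commutatorElement

namespace CfsgLib.OddProducts

variable {G : Type*} [Group G] [Finite G]

/-- A class of involutions with `p`-power products lies in one coset of `O_p(G)`. -/
theorem mem_pCore
    {p : ℕ} (hp : p.Prime) (hp2 : p ≠ 2) {d : G} (hd : orderOf d = 2)
    (hprod : ∀ a ∈ conjugatesOf d, ∀ b ∈ conjugatesOf d, ∃ k : ℕ, orderOf (a * b) = p ^ k) :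
    ∀ a ∈ conjugatesOf d, ∀ b ∈ conjugatesOf d, a * b ∈ Cfsg.pCore p G := by
  have hodd : ∀ a ∈ conjugatesOf d, ∀ b ∈ conjugatesOf d, Odd (orderOf (a * b)) := by
    intro a ha b hb
    obtain ⟨k, hk⟩ := hprod a ha b hb
    rw [hk]
    exact (hp.odd_of_ne_two hp2).pow
  obtain ⟨T, hT⟩ := IsPGroup.exists_le_sylow (p := 2) (P := Subgroup.zpowers d)
    (IsPGroup.of_card (n := 1) (by rw [Nat.card_zpowers, hd, pow_one]))
  have hdT : d ∈ T := hT (Subgroup.mem_zpowers d)
  obtain ⟨K, hKn, hKodd, hKc⟩ :=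
    ZStar.exists_normal_odd_of_no_fusion hd T (eq_of_mem_sylow_two hodd hd T hdT)
  have hdd : d * d = 1 := by rw [← pow_two, ← hd, pow_orderOf_eq_one]
  have hdi : d⁻¹ = d := inv_eq_of_mul_eq_one_right hdd
  refine mem_pCore_of_mem_odd_normal hp hd hprod K hKodd ?_
  intro a ha b hb
  obtain ⟨g, rfl⟩ := isConj_iff.mp ha
  obtain ⟨h, rfl⟩ := isConj_iff.mp hb
  have h1 := hKc g
  have h2 := hKc h
  have h3 := mul_mem (inv_mem h1) h2
  have h4 := hKn.conj_mem _ h3 1
  have : g * d * g⁻¹ * (h * d * h⁻¹) = (d * g * d⁻¹ * g⁻¹)⁻¹ * (d * h * d⁻¹ * h⁻¹) := by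
    simp only [mul_inv_rev, inv_inv, hdi]
    calc g * d * g⁻¹ * (h * d * h⁻¹) = g * d * g⁻¹ * (d * d) * (h * d * h⁻¹) := by
          rw [hdd, mul_one]
      _ = _ := by group
  rw [this]
  exact h3

/-- Fischer: class with `p`-power products generating `G` gives nilpotent derived subgroup. -/
theorem commutator_le_pCore {p : ℕ} {d : G} (hgen : Subgroup.closure (conjugatesOf d) = ⊤)
    (h : ∀ a ∈ conjugatesOf d, ∀ b ∈ conjugatesOf d, a * b ∈ Cfsg.pCore p G) [hN : (Cfsg.pCore p G).Normal] :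
    commutator G ≤ Cfsg.pCore p G := by
  let π := QuotientGroup.mk' (Cfsg.pCore p G)
  have hall : ∀ g : G, π g ∈ Subgroup.zpowers (π d) := by
    intro g
    have hg : g ∈ Subgroup.closure (conjugatesOf d) := by rw [hgen]; trivial
    induction hg using Subgroup.closure_induction with
    | mem x hx =>
      have h1 : π (x * d) = 1 := (QuotientGroup.eq_one_iff _).mpr (h x hx d mem_conjugatesOf_self)
      rw [map_mul, mul_eq_one_iff_eq_inv] at h1
      rw [h1]; exact inv_mem (Subgroup.mem_zpowers _)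
    | one => rw [map_one]; exact one_mem _
    | mul x y _ _ hx hy => rw [map_mul]; exact mul_mem hx hy
    | inv x _ hx => rw [map_inv]; exact inv_mem hx
  rw [commutator_def, Subgroup.commutator_le]
  intro x _ y _
  rw [← QuotientGroup.eq_one_iff]
  show π ⁅x, y⁆ = 1
  rw [map_commutatorElement, commutatorElement_eq_one_iff_commute]
  obtain ⟨i, hi⟩ := Subgroup.mem_zpowers_iff.mp (hall x)
  obtain ⟨j, hj⟩ := Subgroup.mem_zpowers_iff.mp (hall y)
  rw [← hi, ← hj]
  exact (Commute.refl _).zpow_zpow i j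

end CfsgLib.OddProducts
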